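import Mathlib
import Cfsg.Prelude.Def_Transfer

set_option autoImplicit false

/-! Counting conjugacy classes of elements with restricted order. -/

namespace CfsgLib.ClassCount

variable {G : Type*} [Group G]

/-- The primes dividing the order of `x` lie in `π`. -/
def PiElt (π : Finset ℕ) (x : G) : Prop := ∀ r : ℕ, r.Prime → r ∣ orderOf x → r ∈ π

lemma piElt_conj {π : Finset ℕ} {x y : G} (h : IsConj x y) (hx : PiElt π x) : PiElt π y := by
  obtain ⟨c, rfl⟩ := isConj_iff.mp h
  intro r hr hd
  apply hx r hr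
  have : orderOf (c * x * c⁻¹) = orderOf x := by
    simpa [MulAut.conj_apply] using
      orderOf_injective (MulAut.conj c).toMonoidHom (MulAut.conj c).injective x
  rwa [this] at hd

/-- The number of conjugacy classes of `π`-elements. -/
noncomputable def piClassCount (π : Finset ℕ) (G : Type*) [Group G] : ℕ :=
  Nat.card {c : ConjClasses G // ∀ x ∈ c.carrier, PiElt π x}

lemma forall_carrier_iff {π : Finset ℕ} (x : G) :
    (∀ y ∈ (ConjClasses.mk x).carrier, PiElt π y) ↔ PiElt π x := by
  constructor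
  · exact fun h => h x ConjClasses.mem_carrier_mk
  · intro h y hy
    exact piElt_conj (ConjClasses.mk_eq_mk_iff_isConj.mp
      (ConjClasses.mem_carrier_iff_mk_eq.mp hy).symm) h

lemma piElt_singleton_iff {p : ℕ} (hp : p.Prime) [Finite G] (x : G) :
    PiElt {p} x ↔ ∃ k : ℕ, orderOf x = p ^ k := by
  constructor
  · intro h
    refine ⟨_, Nat.eq_prime_pow_of_unique_prime_dvd (orderOf_pos x).ne' (fun {d} hd hdd => ?_)⟩
    simpa using h d hd hdd
  · rintro ⟨k, hk⟩ r hr hd
    rw [hk] at hd
    simpa using (Nat.prime_dvd_prime_iff_eq hr hp).mp (hr.dvd_of_dvd_pow hd)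

lemma piElt_of_mem_pGroup [Finite G] {p : ℕ} [hp : Fact p.Prime] {P : Subgroup G}
    (hP : IsPGroup p P) {x : G} (hx : x ∈ P) : PiElt {p} x := by
  rw [piElt_singleton_iff hp.out]
  obtain ⟨k, hk⟩ := IsPGroup.iff_orderOf.mp hP ⟨x, hx⟩
  exact ⟨k, by rw [← Subgroup.orderOf_mk x hx, hk]⟩

lemma exists_mem_sylow_isConj [Finite G] {p : ℕ} [hp : Fact p.Prime] (P : Sylow p G) {x : G}
    (hx : PiElt {p} x) : ∃ y ∈ (P : Subgroup G), IsConj y x := by
  obtain ⟨k, hk⟩ := (piElt_singleton_iff hp.out x).mp hx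
  have hz : IsPGroup p (Subgroup.zpowers x) :=
    IsPGroup.of_card (n := k) (by rw [Nat.card_zpowers, hk])
  obtain ⟨Q, hQ⟩ := hz.exists_le_sylow
  obtain ⟨g, hg⟩ := MulAction.exists_smul_eq G Q P
  refine ⟨g * x * g⁻¹, ?_, isConj_iff.mpr ⟨g⁻¹, by group⟩⟩
  have h1 : g * x * g⁻¹ ∈ ((g • Q : Sylow p G) : Subgroup G) := by
    rw [Sylow.coe_subgroup_smul]
    exact ⟨x, hQ (Subgroup.mem_zpowers x), by simp⟩
  rwa [hg] at h1

/-- If a finite group acts and every element outside `K` fixes at most a `1/m` part. -/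
theorem orbits_bound {H X : Type*} [Group H] [MulAction H X] [Finite H] [Finite X]
    (K : Subgroup H) (m : ℕ) (hm : ∀ h : H, h ∉ K → m * Nat.card (MulAction.fixedBy X h) ≤ Nat.card X) :
    Nat.card (MulAction.orbitRel.Quotient H X) * Nat.card H * m + Nat.card X * Nat.card K
      ≤ Nat.card X * (m * Nat.card K + Nat.card H) := by
  classical
  have := Fintype.ofFinite H
  have := Fintype.ofFinite X
  have := Fintype.ofFinite (MulAction.orbitRel.Quotient H X)
  simp only [Nat.card_eq_fintype_card] at hm ⊢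
  rw [← MulAction.sum_card_fixedBy_eq_card_orbits_mul_card_group H X, Finset.sum_mul]
  have hsplit := Finset.sum_filter_add_sum_filter_not (Finset.univ : Finset H) (fun h => h ∈ K)
    (fun h => Fintype.card (MulAction.fixedBy X h) * m)
  rw [← hsplit]
  have hK : (Finset.univ.filter (fun h : H => h ∈ K)).card = Fintype.card K :=
    (Fintype.card_subtype _).symm
  have hKc : (Finset.univ.filter (fun h : H => h ∈ K)).card +
      (Finset.univ.filter (fun h : H => h ∉ K)).card = Fintype.card H :=
    Finset.card_filter_add_card_filter_not _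
  have h1 : ∑ h ∈ Finset.univ.filter (fun h : H => h ∈ K), Fintype.card (MulAction.fixedBy X h) * m
      ≤ Fintype.card K * (Fintype.card X * m) := by
    refine (Finset.sum_le_card_nsmul _ _ (Fintype.card X * m) fun h _ => ?_).trans ?_
    · exact Nat.mul_le_mul_right _ (Fintype.card_subtype_le _)
    · rw [hK, smul_eq_mul]
  have h2 : ∑ h ∈ Finset.univ.filter (fun h : H => h ∉ K), Fintype.card (MulAction.fixedBy X h) * m
      ≤ (Finset.univ.filter (fun h : H => h ∉ K)).card * Fintype.card X := by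
    refine (Finset.sum_le_card_nsmul _ _ (Fintype.card X) fun h hh => ?_).trans ?_
    · rw [mul_comm]; exact hm h (Finset.mem_filter.mp hh).2
    · rw [smul_eq_mul]
  rw [hK] at hKc
  nlinarith [h1, h2, hKc, mul_comm (Fintype.card X) (Fintype.card K)]

/-- The basic bound: `p`-classes against `|P|`, for a subgroup `H` of the normalizer of `P`. -/
theorem piClassCount_prime_bound [Finite G] {p : ℕ} [hp : Fact p.Prime] (P : Sylow p G)
    (H : Subgroup G) (hH : H ≤ Subgroup.normalizer ((P : Subgroup G) : Set G)) :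
    piClassCount {p} G * ((Subgroup.centralizer ((P : Subgroup G) : Set G)).relIndex H * p)
        + Nat.card (P : Subgroup G)
      ≤ Nat.card (P : Subgroup G) *
        (p + (Subgroup.centralizer ((P : Subgroup G) : Set G)).relIndex H) := by
  set C := Subgroup.centralizer ((P : Subgroup G) : Set G) with hC
  set φ : H →* MulAut (P : Subgroup G) :=
    (Subgroup.normalizerMonoidHom (P : Subgroup G)).comp (Subgroup.inclusion hH) with hφ
  letI : MulAction H (P : Subgroup G) := MulAction.compHom _ φ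
  have hsmul : ∀ (h : H) (x : (P : Subgroup G)),
      ((h • x : (P : Subgroup G)) : G) = (h : G) * x * (h : G)⁻¹ := by
    intro h x
    rfl
  -- surjection onto classes of p-elements
  have hle : piClassCount {p} G ≤ Nat.card (MulAction.orbitRel.Quotient H (P : Subgroup G)) := by
    refine Nat.card_le_card_of_surjective
      (fun q => Quotient.liftOn' q
        (fun x => (⟨ConjClasses.mk (x : G), (forall_carrier_iff _).mpr
            (piElt_of_mem_pGroup P.2 x.2)⟩ : {c : ConjClasses G // ∀ y ∈ c.carrier, PiElt {p} y}))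
        (fun x y hxy => ?_)) ?_
    · obtain ⟨h, hh⟩ := hxy
      apply Subtype.ext
      simp only [ConjClasses.mk_eq_mk_iff_isConj]
      exact (isConj_iff.mpr ⟨(h : G), by rw [← hsmul]; exact congrArg Subtype.val hh⟩).symm
    · rintro ⟨c, hc⟩
      obtain ⟨x, rfl⟩ := ConjClasses.mk_surjective c
      obtain ⟨y, hy, hyx⟩ := exists_mem_sylow_isConj P ((forall_carrier_iff x).mp hc)
      exact ⟨Quotient.mk'' ⟨y, hy⟩, Subtype.ext (ConjClasses.mk_eq_mk_iff_isConj.mpr hyx)⟩
  have hfix : ∀ h : H, h ∉ C.subgroupOf H →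
      p * Nat.card (MulAction.fixedBy (P : Subgroup G) h) ≤ Nat.card (P : Subgroup G) := by
    intro h hh
    let S : Subgroup (P : Subgroup G) :=
      { carrier := {x | h • x = x}
        mul_mem' := fun {a b} (ha : h • a = a) (hb : h • b = b) => by
          show φ h (a * b) = a * b
          rw [map_mul]
          exact congrArg₂ (· * ·) ha hb
        one_mem' := map_one (φ h)
        inv_mem' := fun {a} (ha : h • a = a) => by
          show φ h a⁻¹ = a⁻¹
          rw [map_inv]
          exact congrArg (·⁻¹) ha }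
    have hS : S ≠ ⊤ := by
      intro htop
      apply hh
      rw [Subgroup.mem_subgroupOf, hC, Subgroup.mem_centralizer_iff]
      intro x hx
      have hxS : h • (⟨x, hx⟩ : (P : Subgroup G)) = ⟨x, hx⟩ := by
        have : (⟨x, hx⟩ : (P : Subgroup G)) ∈ S := htop ▸ Subgroup.mem_top _
        exact this
      have h2 := congrArg Subtype.val hxS
      rw [hsmul] at h2
      exact (mul_inv_eq_iff_eq_mul.mp h2).symm
    have hcard : Nat.card (MulAction.fixedBy (P : Subgroup G) h) = Nat.card S := rfl
    obtain ⟨k, hk⟩ := P.2.index S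
    have hk0 : k ≠ 0 := by
      rintro rfl
      exact hS (Subgroup.index_eq_one.mp (by simpa using hk))
    calc p * Nat.card (MulAction.fixedBy (P : Subgroup G) h)
        ≤ S.index * Nat.card S := by
          rw [hcard, hk]
          exact Nat.mul_le_mul_right _ (Nat.le_self_pow hk0 p)
      _ = _ := by rw [mul_comm, Subgroup.card_mul_index]
  have hb := orbits_bound (C.subgroupOf H) p hfix
  have hindex : Nat.card (C.subgroupOf H) * C.relIndex H = Nat.card H :=
    (C.subgroupOf H).card_mul_index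
  have hpos : 0 < Nat.card (C.subgroupOf H) := Nat.card_pos
  have h3 : piClassCount {p} G * (Nat.card H * p) + Nat.card (P : Subgroup G) * Nat.card (C.subgroupOf H)
      ≤ Nat.card (P : Subgroup G) * (p * Nat.card (C.subgroupOf H) + Nat.card H) := by
    refine le_trans ?_ hb
    rw [mul_assoc (Nat.card (MulAction.orbitRel.Quotient H (P : Subgroup G)))]
    exact Nat.add_le_add_right (Nat.mul_le_mul_right _ hle) _
  rw [← hindex] at h3
  nlinarith [h3, hpos]

/-- `k_p(G) ≤ |P|`. -/
theorem piClassCount_prime_le [Finite G] {p : ℕ} [hp : Fact p.Prime] (P : Sylow p G) :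
    piClassCount {p} G ≤ Nat.card (P : Subgroup G) := by
  refine Nat.card_le_card_of_surjective
    (fun x : (P : Subgroup G) => (⟨ConjClasses.mk (x : G), (forall_carrier_iff _).mpr
      (piElt_of_mem_pGroup P.2 x.2)⟩ : {c : ConjClasses G // ∀ y ∈ c.carrier, PiElt {p} y})) ?_
  rintro ⟨c, hc⟩
  obtain ⟨x, rfl⟩ := ConjClasses.mk_surjective c
  obtain ⟨y, hy, hyx⟩ := exists_mem_sylow_isConj P ((forall_carrier_iff x).mp hc)
  exact ⟨⟨y, hy⟩, Subtype.ext (ConjClasses.mk_eq_mk_iff_isConj.mpr hyx)⟩

/-- Large `k_p` forces the centraliser to have small index in any normalizing subgroup. -/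
theorem relIndex_eq_one_of_many [Finite G] {p : ℕ} [hp : Fact p.Prime] (P : Sylow p G)
    (H : Subgroup G) (hH : H ≤ Subgroup.normalizer ((P : Subgroup G) : Set G))
    (hbig : (p + 1) * Nat.card (P : Subgroup G) < 2 * p * piClassCount {p} G) :
    (Subgroup.centralizer ((P : Subgroup G) : Set G)).relIndex H = 1 := by
  have hb := piClassCount_prime_bound P H hH
  set e := (Subgroup.centralizer ((P : Subgroup G) : Set G)).relIndex H with he
  have he0 : e ≠ 0 := by
    rw [he, Subgroup.relIndex]; exact Subgroup.FiniteIndex.index_ne_zero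
  by_contra hne
  have he2 : 2 ≤ e := by omega
  have hp2 : 2 ≤ p := hp.out.two_le
  have hpos : 0 < Nat.card (P : Subgroup G) := Nat.card_pos
  set k := piClassCount {p} G
  set n := Nat.card (P : Subgroup G)
  have h1 : e * ((p + 1) * n) < e * (2 * p * k) := Nat.mul_lt_mul_of_pos_left hbig (by omega)
  have h2 : 2 * (p + e) * n ≤ e * ((p + 1) * n) + 2 * n := by
    have : 2 * (p + e) ≤ e * (p + 1) + 2 := by nlinarith
    calc 2 * (p + e) * n ≤ (e * (p + 1) + 2) * n := Nat.mul_le_mul_right n this
      _ = e * ((p + 1) * n) + 2 * n := by ring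
  nlinarith [hb, h1, h2]

theorem sylow_comm_of_many [Finite G] {p : ℕ} [Fact p.Prime] (P : Sylow p G)
    (hbig : (p + 1) * Nat.card (P : Subgroup G) < 2 * p * piClassCount {p} G) :
    IsMulCommutative (P : Subgroup G) ∧
      Subgroup.normalizer ((P : Subgroup G) : Set G) ≤
        Subgroup.centralizer ((P : Subgroup G) : Set G) := by
  refine ⟨?_, Subgroup.relIndex_eq_one.mp (relIndex_eq_one_of_many P _ le_rfl hbig)⟩
  have h := Subgroup.relIndex_eq_one.mp
    (relIndex_eq_one_of_many P (P : Subgroup G) Subgroup.le_normalizer hbig)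
  exact ⟨⟨fun a b => Subtype.ext (Subgroup.mem_centralizer_iff.mp (h b.2) a a.2)⟩⟩

theorem hasNormalPComplement_of_many [Finite G] {p : ℕ} [Fact p.Prime] (P : Sylow p G)
    (hbig : (p + 1) * Nat.card (P : Subgroup G) < 2 * p * piClassCount {p} G) :
    Cfsg.HasNormalPComplement p G :=
  ⟨P, _, inferInstance, MonoidHom.ker_transferSylow_isComplement' P (sylow_comm_of_many P hbig).2⟩

theorem piClassCount_eq_of_complement [Finite G] {p : ℕ} [hp : Fact p.Prime] (P : Sylow p G)
    (h : Cfsg.HasNormalPComplement p G) (hab : IsMulCommutative (P : Subgroup G)) :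
    piClassCount {p} G = Nat.card (P : Subgroup G) := by
  obtain ⟨Q, N, hN, hc⟩ := h
  have hQab : IsMulCommutative (Q : Subgroup G) := by
    obtain ⟨g, hg⟩ := MulAction.exists_smul_eq G P Q
    let e := (Sylow.equiv P Q : (P : Subgroup G) ≃* (Q : Subgroup G))
    exact ⟨⟨fun a b => e.symm.injective (by rw [map_mul, map_mul]; exact hab.is_comm.comm _ _)⟩⟩
  rw [(Sylow.equiv P Q).toEquiv |> Nat.card_congr]
  refine le_antisymm (piClassCount_prime_le Q) ?_
  refine Nat.card_le_card_of_injective
    (fun x : (Q : Subgroup G) => (⟨ConjClasses.mk (x : G), (forall_carrier_iff _).mpr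
      (piElt_of_mem_pGroup Q.2 x.2)⟩ : {c : ConjClasses G // ∀ y ∈ c.carrier, PiElt {p} y})) ?_
  intro x y hxy
  have hconj : IsConj (x : G) (y : G) :=
    ConjClasses.mk_eq_mk_iff_isConj.mp (congrArg Subtype.val hxy)
  obtain ⟨c, hcc⟩ := isConj_iff.mp hconj
  obtain ⟨⟨n, q⟩, hnq : (n : G) * (q : G) = c⟩ := hc.2 c
  have hq : (q : G) * x * (q : G)⁻¹ = x := by
    have hcomm : (q : (Q : Subgroup G)) * x = x * q := hQab.is_comm.comm _ _
    have hcomm' : (q : G) * x = x * q := congrArg Subtype.val hcomm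
    rw [hcomm', mul_inv_cancel_right]
  have hy : (n : G) * x * (n : G)⁻¹ = y := by
    rw [← hcc, ← hnq]
    conv_lhs => rw [← hq]
    group
  have hmem : (y : G) * (x : G)⁻¹ ∈ N := by
    rw [← hy]
    have : (x : G) * (n : G)⁻¹ * (x : G)⁻¹ ∈ N := hN.conj_mem _ (N.inv_mem n.2) _
    simpa [mul_assoc] using N.mul_mem n.2 this
  have hmem2 : (y : G) * (x : G)⁻¹ ∈ (Q : Subgroup G) := Q.1.mul_mem y.2 (Q.1.inv_mem x.2)
  have hbot : (y : G) * (x : G)⁻¹ ∈ N ⊓ (Q : Subgroup G) := ⟨hmem, hmem2⟩
  rw [hc.disjoint.eq_bot] at hbot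
  exact (Subtype.ext (mul_inv_eq_one.mp (Subgroup.mem_bot.mp hbot))).symm

end CfsgLib.ClassCount
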