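import Cfsg.Agent.Lib.ClassCount.Product
import Cfsg.Agent.Lib.Transfer.NormalComplement
import Cfsg.Agent.Lib.Coprime.Basic

set_option autoImplicit false

/-! Consequences of `k_p(G) > |P|/2`. -/

namespace CfsgLib.ClassCount

open CfsgLib.Transfer

universe u

variable {G : Type u} [Group G] [Finite G]

/-- Passing to a subgroup containing a Sylow subgroup does not lose classes. -/
theorem piClassCount_le_subgroup {p : ℕ} [hp : Fact p.Prime] (P : Sylow p G) (H : Subgroup G)
    (hP : (P : Subgroup G) ≤ H) : piClassCount {p} G ≤ piClassCount {p} H := by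
  have hord : ∀ x : H, PiElt {p} x ↔ PiElt {p} (x : G) := fun x => by
    simp only [PiElt, Subgroup.orderOf_coe]
  refine Nat.card_le_card_of_surjective
    (fun c : {c : ConjClasses H // ∀ x ∈ c.carrier, PiElt {p} x} =>
      (⟨ConjClasses.map H.subtype c.1, ?_⟩ : {c : ConjClasses G // ∀ x ∈ c.carrier, PiElt {p} x})) ?_
  · obtain ⟨c, hc⟩ := c
    obtain ⟨x, rfl⟩ := ConjClasses.mk_surjective c
    exact (forall_carrier_iff (x : G)).mpr ((hord x).mp ((forall_carrier_iff x).mp hc))
  · rintro ⟨c, hc⟩
    obtain ⟨x, rfl⟩ := ConjClasses.mk_surjective c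
    obtain ⟨y, hy, hyx⟩ := exists_mem_sylow_isConj P ((forall_carrier_iff x).mp hc)
    refine ⟨⟨ConjClasses.mk ⟨y, hP hy⟩, (forall_carrier_iff _).mpr ((hord _).mpr ?_)⟩,
      Subtype.ext (ConjClasses.mk_eq_mk_iff_isConj.mpr hyx)⟩
    exact piElt_of_mem_pGroup P.2 hy

/-- Classes of a central quotient. -/
theorem piClassCount_le_quotient {p : ℕ} [hp : Fact p.Prime] (Z : Subgroup G) [Z.Normal]
    (hZ : IsPGroup p Z) (hc : Z ≤ Subgroup.center G) :
    piClassCount {p} G ≤ Nat.card Z * piClassCount {p} (G ⧸ Z) := by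
  have hrep : ∀ c : {c : ConjClasses (G ⧸ Z) // ∀ x ∈ c.carrier, PiElt {p} x},
      ∃ a : G, ConjClasses.mk (a : G ⧸ Z) = c.1 := fun c => by
    obtain ⟨x, hx⟩ := ConjClasses.exists_rep c.1
    obtain ⟨a, rfl⟩ := QuotientGroup.mk'_surjective Z x
    exact ⟨a, hx⟩
  choose rep hrep using hrep
  let f : Z × {c : ConjClasses (G ⧸ Z) // ∀ x ∈ c.carrier, PiElt {p} x} → ConjClasses G :=
    fun t => ConjClasses.mk (rep t.2 * (t.1 : G))
  unfold piClassCount
  rw [← Nat.card_prod]
  refine le_trans ?_ (Nat.card_le_card_of_surjective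
    (fun z => (⟨f z, ⟨z, rfl⟩⟩ : Set.range f)) (by rintro ⟨_, z, rfl⟩; exact ⟨z, rfl⟩))
  refine Nat.card_le_card_of_injective
    (fun c : {c : ConjClasses G // ∀ x ∈ c.carrier, PiElt {p} x} =>
      (⟨c.1, ?_⟩ : Set.range f)) (fun a b h => Subtype.ext (congrArg Subtype.val h :))
  obtain ⟨c, hc'⟩ := c
  obtain ⟨g, rfl⟩ := ConjClasses.mk_surjective c
  have hg := (forall_carrier_iff g).mp hc'
  have hgq : PiElt {p} (g : G ⧸ Z) := fun r hr hd =>
    hg r hr (hd.trans (orderOf_map_dvd (QuotientGroup.mk' Z) g))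
  set d : {c : ConjClasses (G ⧸ Z) // ∀ x ∈ c.carrier, PiElt {p} x} :=
    ⟨ConjClasses.mk (g : G ⧸ Z), (forall_carrier_iff _).mpr hgq⟩
  obtain ⟨t, ht⟩ := isConj_iff.mp (ConjClasses.mk_eq_mk_iff_isConj.mp (hrep d))
  obtain ⟨t, rfl⟩ := QuotientGroup.mk'_surjective Z t
  have hm : (t * rep d * t⁻¹)⁻¹ * g ∈ Z := QuotientGroup.eq.mp ht
  refine ⟨(⟨_, hm⟩, d), ?_⟩
  show ConjClasses.mk (rep d * ((t * rep d * t⁻¹)⁻¹ * g)) = ConjClasses.mk g
  rw [ConjClasses.mk_eq_mk_iff_isConj, isConj_iff]
  refine ⟨t, ?_⟩
  have hcomm := Subgroup.mem_center_iff.mp (hc hm) t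
  calc t * (rep d * ((t * rep d * t⁻¹)⁻¹ * g)) * t⁻¹
      = (t * rep d * t⁻¹) * (t * ((t * rep d * t⁻¹)⁻¹ * g) * t⁻¹) := by group
    _ = (t * rep d * t⁻¹) * ((t * rep d * t⁻¹)⁻¹ * g) := by rw [hcomm, mul_inv_cancel_right]
    _ = g := mul_inv_cancel_left _ _

/-- More than `|P|/2` classes of 2-elements: some non-identity element of `P` is alone in `P`. -/
theorem exists_isolated {p : ℕ} [hp : Fact p.Prime] (P : Sylow p G) (heven : Even (Nat.card (P : Subgroup G)))
    (hbig : Nat.card (P : Subgroup G) < 2 * piClassCount {p} G) :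
    ∃ z ∈ (P : Subgroup G), z ≠ 1 ∧ ∀ g : G, g * z * g⁻¹ ∈ (P : Subgroup G) → g * z * g⁻¹ = z := by
  classical
  by_contra hno
  push Not at hno
  let T := {c : ConjClasses G // ∀ x ∈ c.carrier, PiElt {p} x}
  let f : ↥(P : Subgroup G) → T := fun x =>
    ⟨ConjClasses.mk (x : G), (forall_carrier_iff _).mpr (piElt_of_mem_pGroup P.2 x.2)⟩
  have := Fintype.ofFinite T
  have := Fintype.ofFinite (P : Subgroup G)
  have hsum : Fintype.card (P : Subgroup G) =
      ∑ c : T, (Finset.univ.filter fun x => f x = c).card :=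
    Finset.card_eq_sum_card_fiberwise (fun x _ => Finset.mem_univ (f x))
  let one : T := f 1
  have hfib : ∀ c : T, c ≠ one → 2 ≤ (Finset.univ.filter fun x => f x = c).card := by
    intro c hc
    obtain ⟨x, hx⟩ := ConjClasses.mk_surjective c.1
    obtain ⟨y, hy, hyx⟩ := exists_mem_sylow_isConj P ((forall_carrier_iff x).mp (hx ▸ c.2))
    have hyc : f ⟨y, hy⟩ = c :=
      Subtype.ext ((ConjClasses.mk_eq_mk_iff_isConj.mpr hyx).trans hx)
    have hy1 : y ≠ 1 := fun h => hc (hyc.symm.trans (Subtype.ext (by simp [f, one, h])))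
    obtain ⟨g, hg, hgne⟩ := hno y hy hy1
    have hgc : f ⟨_, hg⟩ = c := by
      refine (Subtype.ext ?_).trans hyc
      exact ConjClasses.mk_eq_mk_iff_isConj.mpr (isConj_iff.mpr ⟨g, rfl⟩).symm
    exact Finset.one_lt_card.mpr ⟨⟨y, hy⟩, by simp [hyc], ⟨_, hg⟩, by simp [hgc],
      fun h => hgne (congrArg Subtype.val h).symm⟩
  have hone : 1 ≤ (Finset.univ.filter fun x => f x = one).card :=
    Finset.card_pos.mpr ⟨1, by simp [one]⟩
  rw [← Finset.add_sum_erase _ _ (Finset.mem_univ one)] at hsum
  have h2 : (Finset.univ.erase one).card * 2 ≤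
      ∑ c ∈ Finset.univ.erase one, (Finset.univ.filter fun x => f x = c).card := by
    have := Finset.card_nsmul_le_sum (Finset.univ.erase one)
      (fun c => (Finset.univ.filter fun x => f x = c).card) 2
      (fun c hc => hfib c (Finset.ne_of_mem_erase hc))
    simpa [smul_eq_mul] using this
  rw [Finset.card_erase_of_mem (Finset.mem_univ one), Finset.card_univ] at h2
  have hk : piClassCount {p} G = Fintype.card T := by rw [← Nat.card_eq_fintype_card]; rfl
  have hTpos : 0 < Fintype.card T := Fintype.card_pos_iff.mpr ⟨one⟩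
  rw [Nat.card_eq_fintype_card] at heven hbig
  obtain ⟨m, hm⟩ := heven
  omega

/-- `k_2(G) > |P|/2` gives a normal 2-complement. -/
theorem frobeniusCond_two_of_many : ∀ (n : ℕ) (G : Type u) [Group G] [Finite G], Nat.card G ≤ n →
    ∀ P : Sylow 2 G, Nat.card (P : Subgroup G) < 2 * piClassCount {2} G → FrobeniusCond 2 G := by
  intro n
  induction n with
  | zero => intro G _ _ h; exact absurd Nat.card_pos (not_lt.mpr h)
  | succ n ih =>
    intro G _ _ hn P hbig
    by_cases hP1 : (P : Subgroup G) = ⊥
    · refine frobeniusCond_of_le_sylow P fun Q hQ g _ _ => ?_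
      rw [Subgroup.mem_centralizer_iff]
      intro q hq
      have : q = 1 := by simpa [hP1] using hQ hq
      simp [this]
    obtain ⟨k, hk⟩ := P.2.exists_card_eq
    have hk0 : k ≠ 0 := by
      rintro rfl
      exact hP1 (Subgroup.card_eq_one.mp (by simpa using hk))
    have heven : Even (Nat.card (P : Subgroup G)) := by
      rw [hk]; exact (Nat.even_pow.mpr ⟨even_two, hk0⟩)
    obtain ⟨z, hzP, hz1, hiso⟩ := exists_isolated P heven hbig
    set C := Subgroup.centralizer ({z} : Set G) with hC
    have hPC : (P : Subgroup G) ≤ C := fun x hx => by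
      have := hiso x (P.1.mul_mem (P.1.mul_mem hx hzP) (P.1.inv_mem hx))
      exact Subgroup.mem_centralizer_singleton_iff.mpr (mul_inv_eq_iff_eq_mul.mp this)
    by_cases hCtop : C = ⊤
    · set Z := Subgroup.zpowers z with hZ
      have hzc : z ∈ Subgroup.center G := Subgroup.mem_center_iff.mpr fun g =>
        Subgroup.mem_centralizer_singleton_iff.mp
          (show g ∈ C by rw [hCtop]; exact Subgroup.mem_top g)
      have hZc : Z ≤ Subgroup.center G := Subgroup.zpowers_le.mpr hzc
      have : Z.Normal := ⟨fun a ha g => by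
        rw [Subgroup.mem_center_iff.mp (hZc ha) g, mul_inv_cancel_right]; exact ha⟩
      have hZP : Z ≤ (P : Subgroup G) := Subgroup.zpowers_le.mpr hzP
      have hZp : IsPGroup 2 Z := P.2.to_le hZP
      have hZ1 : 1 < Nat.card Z := Z.one_lt_card_iff_ne_bot.mpr (Subgroup.zpowers_ne_bot.mpr hz1)
      have hsmall : Nat.card (G ⧸ Z) ≤ n := by
        have h1 : Z.index * Nat.card Z = Nat.card G := Z.index_mul_card
        have h3 : 0 < Z.index := Nat.pos_of_ne_zero Subgroup.FiniteIndex.index_ne_zero
        show Z.index ≤ n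
        nlinarith
      let P' : Sylow 2 (G ⧸ Z) := P.mapSurjective (QuotientGroup.mk'_surjective Z)
      have hP' : Nat.card (P' : Subgroup (G ⧸ Z)) * Nat.card Z = Nat.card (P : Subgroup G) := by
        rw [← CfsgLib.Coprime.card_map_mul_inf_ker (QuotientGroup.mk' Z) (P : Subgroup G),
          QuotientGroup.ker_mk', inf_eq_left.mpr hZP]
        rfl
      have hbig' : Nat.card (P' : Subgroup (G ⧸ Z)) < 2 * piClassCount {2} (G ⧸ Z) := by
        have h1 := piClassCount_le_quotient Z hZp hZc
        rw [← hP'] at hbig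
        refine Nat.lt_of_mul_lt_mul_right (a := Nat.card Z) (hbig.trans_le ?_)
        rw [mul_assoc, mul_comm _ (Nat.card Z)]
        omega
      have hF := ih (G ⧸ Z) hsmall P' hbig'
      intro Q hQ g hg hgc
      rw [Subgroup.mem_centralizer_iff]
      intro q hq
      set π := QuotientGroup.mk' Z
      have hgn : π g ∈ Subgroup.normalizer ((Q.map π : Subgroup (G ⧸ Z)) : Set (G ⧸ Z)) := by
        rw [Subgroup.mem_normalizer_iff]
        intro w
        constructor
        · rintro ⟨v, hv, rfl⟩
          exact ⟨g * v * g⁻¹, (Subgroup.mem_normalizer_iff.mp hg v).mp hv, by simp⟩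
        · rintro ⟨v, hv, hvw⟩
          refine ⟨g⁻¹ * v * g, (Subgroup.mem_normalizer_iff.mp hg _).mpr ?_, ?_⟩
          · rwa [show g * (g⁻¹ * v * g) * g⁻¹ = v by group]
          · rw [map_mul, map_mul, hvw, map_inv]; group
      have hcent := hF (Q.map π) (hQ.map π) (π g) hgn
        (hgc.coprime_dvd_left (orderOf_map_dvd π g))
      have hc2 : π (g * q * g⁻¹) = π q := by
        rw [map_mul, map_mul, map_inv]
        have := Subgroup.mem_centralizer_iff.mp hcent (π q) ⟨q, hq, rfl⟩
        rw [← this, mul_inv_cancel_right]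
      set w := q⁻¹ * (g * q * g⁻¹) with hw
      have hwZ : w ∈ Z := QuotientGroup.eq.mp hc2.symm
      have hwcomm : ∀ x : G, x * w = w * x := fun x => Subgroup.mem_center_iff.mp (hZc hwZ) x
      have hiter : ∀ i : ℕ, g ^ i * q * (g ^ i)⁻¹ = q * w ^ i := by
        intro i
        induction i with
        | zero => simp
        | succ i ihi =>
          calc g ^ (i + 1) * q * (g ^ (i + 1))⁻¹ = g * (g ^ i * q * (g ^ i)⁻¹) * g⁻¹ := by
                rw [pow_succ']; group
            _ = g * (q * w ^ i) * g⁻¹ := by rw [ihi]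
            _ = g * q * g⁻¹ * (g * w ^ i * g⁻¹) := by group
            _ = g * q * g⁻¹ * w ^ i := by
                rw [(Commute.pow_right (hwcomm g) i).eq, mul_inv_cancel_right]
            _ = q * w * w ^ i := by rw [hw, mul_inv_cancel_left]
            _ = q * w ^ (i + 1) := by rw [pow_succ', mul_assoc]
      have hword : w ^ orderOf g = 1 := by
        have := hiter (orderOf g)
        rw [pow_orderOf_eq_one] at this
        simpa using this.symm
      obtain ⟨j, hj⟩ := IsPGroup.iff_orderOf.mp hZp ⟨w, hwZ⟩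
      rw [Subgroup.orderOf_mk] at hj
      have hw1 : w = 1 := orderOf_eq_one_iff.mp (Nat.eq_one_of_dvd_coprimes
        (hgc.pow_right j) (orderOf_dvd_of_pow_eq_one hword) (dvd_of_eq hj))
      have := hiter 1
      rw [hw1, pow_one, pow_one, mul_one] at this
      exact (mul_inv_eq_iff_eq_mul.mp this).symm
    · have hsmall : Nat.card C ≤ n := by
        have h1 : C.index * Nat.card C = Nat.card G := C.index_mul_card
        have h2 : 1 < C.index := by
          have := Subgroup.FiniteIndex.index_ne_zero (H := C)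
          have := (Subgroup.index_eq_one (H := C)).not.mpr hCtop
          omega
        have h3 : 0 < Nat.card C := Nat.card_pos
        nlinarith
      have hPcard : Nat.card (P.subtype hPC : Subgroup C) = Nat.card (P : Subgroup G) := by
        rw [Sylow.coe_subtype]
        exact Nat.card_congr (Subgroup.subgroupOfEquivOfLe hPC).toEquiv
      have hF := ih C hsmall (P.subtype hPC) (by
        have := piClassCount_le_subgroup P C hPC
        omega)
      refine frobeniusCond_of_le_sylow P fun Q hQ g hg hgc => ?_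
      set CQ := Subgroup.centralizer (Q : Set G) with hCQ
      have hzCQ : z ∈ CQ := Subgroup.mem_centralizer_iff.mpr fun q hq =>
        Subgroup.mem_centralizer_singleton_iff.mp (hPC (hQ hq))
      obtain ⟨T, hT⟩ := (P.2.to_le (inf_le_left : (P : Subgroup G) ⊓ CQ ≤ _)).comap_subtype
        |>.exists_le_sylow (G := CQ)
      have hzT : (⟨z, hzCQ⟩ : CQ) ∈ (T : Subgroup CQ) := hT ⟨hzP, hzCQ⟩
      obtain ⟨R, hR⟩ := (T.2.map CQ.subtype).exists_le_sylow
      have hzR : z ∈ (R : Subgroup G) := hR ⟨_, hzT, rfl⟩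
      obtain ⟨a, ha⟩ := MulAction.exists_smul_eq G P R
      have hisoR : ∀ h : G, h * z * h⁻¹ ∈ (R : Subgroup G) → h * z * h⁻¹ = z := by
        have key : ∀ w, w ∈ (R : Subgroup G) → a⁻¹ * w * a ∈ (P : Subgroup G) := by
          intro w hw
          rw [← ha, Sylow.coe_subgroup_smul] at hw
          obtain ⟨v, hv, rfl⟩ := hw
          simpa [mul_assoc] using (show v ∈ (P : Subgroup G) from hv)
        intro h hh
        have h1 : a⁻¹ * z * a⁻¹⁻¹ = z := hiso a⁻¹ (by simpa using key z hzR)
        have h2 := hiso (a⁻¹ * h) (by simpa [mul_assoc] using key _ hh)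
        have h3 : h * z * h⁻¹ = a * z * a⁻¹ := by
          calc h * z * h⁻¹ = a * (a⁻¹ * h * z * (a⁻¹ * h)⁻¹) * a⁻¹ := by group
            _ = _ := by rw [h2]
        rw [h3]
        nth_rewrite 1 [← h1]
        group
      let gN : CQ ≃* CQ :=
        { toFun := fun c => ⟨g * c * g⁻¹, by
            refine Subgroup.mem_centralizer_iff.mpr fun q hq => ?_
            have hq' := (Subgroup.mem_normalizer_iff''.mp hg q).mp hq
            have := Subgroup.mem_centralizer_iff.mp c.2 _ hq'
            calc q * (g * c * g⁻¹) = g * ((g⁻¹ * q * g) * c) * g⁻¹ := by group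
              _ = g * (c * (g⁻¹ * q * g)) * g⁻¹ := by rw [this]
              _ = _ := by group⟩
          invFun := fun c => ⟨g⁻¹ * c * g, by
            refine Subgroup.mem_centralizer_iff.mpr fun q hq => ?_
            have hq' := (Subgroup.mem_normalizer_iff.mp hg q).mp hq
            have := Subgroup.mem_centralizer_iff.mp c.2 _ hq'
            calc q * (g⁻¹ * c * g) = g⁻¹ * ((g * q * g⁻¹) * c) * g := by group
              _ = g⁻¹ * (c * (g * q * g⁻¹)) * g := by rw [this]
              _ = _ := by group⟩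
          left_inv := fun c => Subtype.ext (by group)
          right_inv := fun c => Subtype.ext (by group)
          map_mul' := fun c d => Subtype.ext (by simp [mul_assoc]) }
      let Tg : Sylow 2 CQ :=
        { toSubgroup := (T : Subgroup CQ).map gN.toMonoidHom
          isPGroup' := T.2.map _
          is_maximal' := fun {Y} hY hle => by
            have h1 : (T : Subgroup CQ) ≤ Y.comap gN.toMonoidHom := Subgroup.map_le_iff_le_comap.mp hle
            have h2 := T.3 (hY.comap_of_injective _ gN.injective) h1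
            rw [← h2, Subgroup.map_comap_eq_self_of_surjective gN.surjective] }
      obtain ⟨c, hc⟩ := MulAction.exists_smul_eq CQ T Tg
      set n' := (c : G)⁻¹ * g with hn'
      have hgz : gN ⟨z, hzCQ⟩ ∈ ((c • T : Sylow 2 CQ) : Subgroup CQ) := by
        rw [hc]; exact ⟨_, hzT, rfl⟩
      rw [Sylow.coe_subgroup_smul] at hgz
      obtain ⟨v, hv, hvz⟩ := hgz
      have hvz' : (c : G) * v * (c : G)⁻¹ = g * z * g⁻¹ := congrArg Subtype.val hvz
      have hnz : n' * z * n'⁻¹ = z := by
        apply hisoR
        have : n' * z * n'⁻¹ = (v : G) := by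
          calc n' * z * n'⁻¹ = (c : G)⁻¹ * (g * z * g⁻¹) * c := by rw [hn']; group
            _ = _ := by rw [← hvz']; group
        rw [this]
        exact hR ⟨v, hv, rfl⟩
      have hn'C : n' ∈ C := Subgroup.mem_centralizer_singleton_iff.mpr (mul_inv_eq_iff_eq_mul.mp hnz)
      have hn'act : ∀ q ∈ Q, n' * q * n'⁻¹ = g * q * g⁻¹ := by
        intro q hq
        have hq' := (Subgroup.mem_normalizer_iff.mp hg q).mp hq
        have := Subgroup.mem_centralizer_iff.mp c.2 _ hq'
        calc n' * q * n'⁻¹ = (c : G)⁻¹ * ((g * q * g⁻¹) * c) := by rw [hn']; group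
          _ = _ := by rw [this, inv_mul_cancel_left]
      have hn'N : n' ∈ Subgroup.normalizer (Q : Set G) :=
        Subgroup.mul_mem _ (Subgroup.inv_mem _ (Subgroup.centralizer_le_normalizer _ c.2)) hg
      set kk := (orderOf n').factorization 2 with hkk
      have hodd : Nat.Coprime (orderOf (⟨n', hn'C⟩ ^ 2 ^ kk : C)) 2 := by
        rw [orderOf_pow_of_dvd (pow_ne_zero _ two_ne_zero)
          (by rw [Subgroup.orderOf_mk]; exact Nat.ordProj_dvd _ _), Subgroup.orderOf_mk]
        exact (Nat.coprime_ordCompl Nat.prime_two (orderOf_pos n').ne').symm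
      have hQC : Q ≤ C := hQ.trans hPC
      have hcent := hF (Q.subgroupOf C) ((P.2.to_le hQ).comap_subtype) (⟨n', hn'C⟩ ^ 2 ^ kk) (by
        apply Subgroup.pow_mem
        rw [Subgroup.mem_normalizer_iff]
        intro w
        rw [Subgroup.mem_subgroupOf, Subgroup.mem_subgroupOf]
        exact Subgroup.mem_normalizer_iff.mp hn'N (w : G)) hodd
      have hiter : ∀ i : ℕ, ∀ q ∈ Q, n' ^ i * q * (n' ^ i)⁻¹ = g ^ i * q * (g ^ i)⁻¹ := by
        intro i
        induction i with
        | zero => simp
        | succ i ihi =>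
          intro q hq
          have hgq : g ^ i * q * (g ^ i)⁻¹ ∈ Q :=
            (Subgroup.mem_normalizer_iff.mp (Subgroup.pow_mem _ hg i) q).mp hq
          calc n' ^ (i + 1) * q * (n' ^ (i + 1))⁻¹
              = n' * (n' ^ i * q * (n' ^ i)⁻¹) * n'⁻¹ := by rw [pow_succ']; group
            _ = n' * (g ^ i * q * (g ^ i)⁻¹) * n'⁻¹ := by rw [ihi q hq]
            _ = g * (g ^ i * q * (g ^ i)⁻¹) * g⁻¹ := hn'act _ hgq
            _ = _ := by rw [pow_succ']; group
      have hgk : g ^ 2 ^ kk ∈ CQ := by
        rw [hCQ, Subgroup.mem_centralizer_iff]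
        intro q hq
        have h1 := Subgroup.mem_centralizer_iff.mp hcent ⟨q, hQC hq⟩ hq
        have h2 : q * n' ^ 2 ^ kk = n' ^ 2 ^ kk * q := congrArg Subtype.val h1
        have h3 := hiter (2 ^ kk) q hq
        rw [← h2, mul_inv_cancel_right] at h3
        exact (eq_mul_inv_iff_mul_eq.mp h3)
      obtain ⟨m, hm⟩ := exists_pow_eq_self_of_coprime
        (Nat.Coprime.pow_left kk hgc.symm)
      rw [← hm]
      exact Subgroup.pow_mem _ hgk m

/-- In a group of odd order, more than `|P|/2` classes of `p`-elements forces a normal complement. -/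
theorem hasNormalPComplement_of_many_odd (hodd : Odd (Nat.card G)) {p : ℕ} [hp : Fact p.Prime]
    (P : Sylow p G) (hbig : Nat.card (P : Subgroup G) < 2 * piClassCount {p} G) :
    Cfsg.HasNormalPComplement p G ∧ IsMulCommutative (P : Subgroup G) := by
  set C := Subgroup.centralizer ((P : Subgroup G) : Set G) with hC
  have key : ∀ H : Subgroup G, H ≤ Subgroup.normalizer ((P : Subgroup G) : Set G) →
      C.relIndex H = 1 ∨ C.relIndex H = p := by
    intro H hH
    have hb := piClassCount_prime_bound P H hH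
    rw [← hC] at hb
    set e := C.relIndex H with he
    have hedvd : e ∣ Nat.card G :=
      (Subgroup.relIndex_dvd_card C H).trans (Subgroup.card_subgroup_dvd_card H)
    have he2 : Odd e := hodd.of_dvd_nat hedvd
    by_contra hne
    by_cases hp2 : p = 2
    · exfalso
      have : (2 : ℕ) ∣ Nat.card G ∨ Nat.card (P : Subgroup G) = 1 := by
        rcases Nat.eq_zero_or_pos ((Nat.card G).factorization p) with h0 | h0
        · right; rw [P.card_eq_multiplicity, h0, pow_zero]
        · left; subst hp2; exact Nat.dvd_of_factorization_pos h0.ne'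
      rcases this with h | h
      · exact (Nat.not_even_iff_odd.mpr hodd) (even_iff_two_dvd.mpr h)
      · have hk1 := piClassCount_prime_le P
        have : e = 1 := by
          have hH1 : H ≤ C := fun x hx => by
            rw [hC, Subgroup.mem_centralizer_iff]
            intro y hy
            have : (P : Subgroup G) = ⊥ := Subgroup.card_eq_one.mp h
            simp [this] at hy
            simp [hy]
          exact Subgroup.relIndex_eq_one.mpr hH1
        exact hne (Or.inl this)
    have hp3 : 3 ≤ p := by have := hp.out.two_le; omega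
    push Not at hne
    obtain ⟨j, hj⟩ := he2
    set k := piClassCount {p} G
    set n := Nat.card (P : Subgroup G)
    have hn : 0 < n := Nat.card_pos
    have he3 : 3 ≤ e := by omega
    rcases Nat.lt_or_ge 3 p with h3 | h3
    · have h4 : 2 * p + 2 * e ≤ e * p + 2 := by nlinarith
      have h5 : (2 * p + 2 * e) * n ≤ (e * p + 2) * n := Nat.mul_le_mul_right n h4
      have h6 : n * (e * p) < 2 * k * (e * p) := Nat.mul_lt_mul_of_pos_right hbig (by positivity)
      nlinarith [hb, h5, h6]
    · have hp' : p = 3 := by omega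
      have he5 : 5 ≤ e := by omega
      rw [hp'] at hb
      nlinarith [hb]
  have hPC : (P : Subgroup G) ≤ C := by
    rcases key (P : Subgroup G) Subgroup.le_normalizer with h | h
    · exact Subgroup.relIndex_eq_one.mp h
    · exfalso
      have hcard : Nat.card ((P : Subgroup G) ⧸ Subgroup.center (P : Subgroup G)) = p := by
        have heq : C.subgroupOf (P : Subgroup G) = Subgroup.center (P : Subgroup G) := by
          ext x
          rw [Subgroup.mem_subgroupOf, hC, Subgroup.mem_centralizer_iff, Subgroup.mem_center_iff]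
          exact ⟨fun hx y => Subtype.ext (hx y y.2), fun hx y hy => congrArg Subtype.val (hx ⟨y, hy⟩)⟩
        rw [← heq]; exact h
      have hcyc : IsCyclic ((P : Subgroup G) ⧸ Subgroup.center (P : Subgroup G)) :=
        isCyclic_of_prime_card hcard
      have hcomm := commutative_of_cyclic_center_quotient
        (QuotientGroup.mk' (Subgroup.center (P : Subgroup G))) (by simp)
      have : Subgroup.center (P : Subgroup G) = ⊤ :=
        eq_top_iff.mpr fun x _ => Subgroup.mem_center_iff.mpr fun y => hcomm y x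
      have h1 : Nat.card ((P : Subgroup G) ⧸ Subgroup.center (P : Subgroup G)) = 1 := by
        show (Subgroup.center (P : Subgroup G)).index = 1
        rw [this, Subgroup.index_top]
      rw [hcard] at h1
      exact hp.out.ne_one h1
  have hab : IsMulCommutative (P : Subgroup G) :=
    ⟨⟨fun a b => Subtype.ext (Subgroup.mem_centralizer_iff.mp (hPC b.2) a a.2)⟩⟩
  have hNC : Subgroup.normalizer ((P : Subgroup G) : Set G) ≤ C := by
    rcases key _ le_rfl with h | h
    · exact Subgroup.relIndex_eq_one.mp h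
    · exfalso
      have : C.relIndex (Subgroup.normalizer ((P : Subgroup G) : Set G)) ∣ (P : Subgroup G).index :=
        (Subgroup.relIndex_dvd_of_le_left _ hPC).trans
          (Subgroup.relIndex_dvd_index_of_le Subgroup.le_normalizer)
      rw [h] at this
      exact P.not_dvd_index this
  exact ⟨⟨P, _, inferInstance, MonoidHom.ker_transferSylow_isComplement' P hNC⟩, hab⟩

end CfsgLib.ClassCount
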