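import Cfsg.Agent.Lib.ClassCount.Basic

set_option autoImplicit false

/-! `k_π(G) ≤ k_p(G) · |G|_{π∖p}` and the normal complement packaging. -/

namespace CfsgLib.ClassCount

universe u

/-- The `π`-part of `|G|`. -/
noncomputable def piPart (π : Finset ℕ) (G : Type*) [Group G] : ℕ :=
  π.prod (fun r => r ^ (Nat.card G).factorization r)

lemma piPart_le_of_subgroup {G : Type u} [Group G] [Finite G] (π : Finset ℕ)
    (hπ : ∀ r ∈ π, r.Prime) (H : Subgroup G) : piPart π H ≤ piPart π G :=
  Finset.prod_le_prod' fun r hr =>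
    Nat.pow_le_pow_right (hπ r hr).pos
      ((Nat.factorization_le_iff_dvd Nat.card_pos.ne' Nat.card_pos.ne').mpr
        (Subgroup.card_subgroup_dvd_card H) r)

lemma exists_parts {G : Type u} [Group G] [Finite G] {p : ℕ} (hp : p.Prime) (x : G) :
    ∃ a b : G, x = a * b ∧ Commute a b ∧ (∃ k : ℕ, orderOf a ∣ p ^ k) ∧
      orderOf b ∣ orderOf x ∧ ¬ p ∣ orderOf b := by
  set n := orderOf x with hn
  have hn0 : n ≠ 0 := (orderOf_pos x).ne'
  set k := n.factorization p
  set m := n / p ^ k with hm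
  have hnm : p ^ k * m = n := Nat.mul_div_cancel' (Nat.ordProj_dvd n p)
  have hcop : Nat.Coprime (p ^ k) m :=
    Nat.Coprime.pow_left _ (Nat.coprime_ordCompl hp hn0)
  have hbez : (1 : ℤ) = (p ^ k : ℕ) * Nat.gcdA (p ^ k) m + m * Nat.gcdB (p ^ k) m := by
    rw [← Nat.gcd_eq_gcd_ab, hcop]; rfl
  refine ⟨x ^ ((m : ℤ) * Nat.gcdB (p ^ k) m), x ^ (((p ^ k : ℕ) : ℤ) * Nat.gcdA (p ^ k) m),
    ?_, Commute.zpow_zpow_self x _ _, ⟨k, ?_⟩, ?_, ?_⟩
  · rw [← zpow_add, add_comm, ← hbez, zpow_one]
  · apply orderOf_dvd_of_pow_eq_one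
    rw [← zpow_natCast, ← zpow_mul]
    have : ((m : ℤ) * Nat.gcdB (p ^ k) m) * (p ^ k : ℕ) = (n : ℤ) * Nat.gcdB (p ^ k) m := by
      rw [← hnm]; push_cast; ring
    rw [this, zpow_mul, zpow_natCast, hn, pow_orderOf_eq_one, one_zpow]
  · apply orderOf_dvd_of_pow_eq_one
    rw [← zpow_natCast, ← zpow_mul, mul_comm _ ((n : ℕ) : ℤ), zpow_mul, zpow_natCast, hn,
      pow_orderOf_eq_one, one_zpow]
  · have hd : orderOf (x ^ (((p ^ k : ℕ) : ℤ) * Nat.gcdA (p ^ k) m)) ∣ m := by
      apply orderOf_dvd_of_pow_eq_one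
      rw [← zpow_natCast, ← zpow_mul]
      have : ((p ^ k : ℕ) : ℤ) * Nat.gcdA (p ^ k) m * (m : ℕ) = (n : ℤ) * Nat.gcdA (p ^ k) m := by
        rw [← hnm]; push_cast; ring
      rw [this, zpow_mul, zpow_natCast, hn, pow_orderOf_eq_one, one_zpow]
    intro hpd
    exact Nat.not_dvd_ordCompl hp hn0 (hpd.trans hd)

/-- One step: split off the prime `p`. -/
theorem piClassCount_insert_le {G : Type u} [Group G] [Finite G] {p : ℕ} [hp : Fact p.Prime]
    (π : Finset ℕ) (B : ℕ)
    (hB : ∀ x : G, piClassCount π (Subgroup.centralizer ({x} : Set G)) ≤ B) :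
    piClassCount (insert p π) G ≤ piClassCount {p} G * B := by
  classical
  let I := {c : ConjClasses G // ∀ x ∈ c.carrier, PiElt {p} x}
  have hrep : ∀ c : I, ∃ a : G, ConjClasses.mk a = c.1 := fun c => ConjClasses.exists_rep c.1
  choose rep hrep using hrep
  have hrp : ∀ c : I, PiElt {p} (rep c) := fun c => (forall_carrier_iff _).mp (hrep c ▸ c.2)
  let S : I → Type u := fun c =>
    {d : ConjClasses (Subgroup.centralizer ({rep c} : Set G)) // ∀ y ∈ d.carrier, PiElt π y}
  have := Fintype.ofFinite I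
  calc piClassCount (insert p π) G ≤ Nat.card (Σ c : I, S c) := ?_
    _ = ∑ c : I, Nat.card (S c) := Nat.card_sigma
    _ ≤ ∑ _c : I, B := Finset.sum_le_sum fun c _ => hB (rep c)
    _ = piClassCount {p} G * B := by
        rw [Finset.sum_const, Finset.card_univ, smul_eq_mul, ← Nat.card_eq_fintype_card]
        rfl
  let f : (Σ c : I, S c) → ConjClasses G := fun z =>
    Quotient.liftOn z.2.1 (fun y => ConjClasses.mk (rep z.1 * (y : G))) (fun y y' h => by
      obtain ⟨w, hw⟩ := isConj_iff.mp h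
      rw [ConjClasses.mk_eq_mk_iff_isConj, isConj_iff]
      refine ⟨(w : G), ?_⟩
      have hwc : rep z.1 * (w : G) = w * rep z.1 := w.2 (rep z.1) rfl
      have hw' : (w : G) * y * (w : G)⁻¹ = y' := congrArg Subtype.val hw
      rw [← hw', ← mul_assoc (w : G), ← hwc]
      group)
  refine le_trans ?_ (Nat.card_le_card_of_surjective
    (fun z => (⟨f z, ⟨z, rfl⟩⟩ : Set.range f)) (by rintro ⟨_, z, rfl⟩; exact ⟨z, rfl⟩))
  refine Nat.card_le_card_of_injective
    (fun c : {c : ConjClasses G // ∀ x ∈ c.carrier, PiElt (insert p π) x} =>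
      (⟨c.1, ?_⟩ : Set.range f)) (fun a b h => Subtype.ext (congrArg Subtype.val h :))
  obtain ⟨c, hc⟩ := c
  obtain ⟨g, rfl⟩ := ConjClasses.mk_surjective c
  have hg := (forall_carrier_iff g).mp hc
  obtain ⟨a, b, hab, hcom, ⟨k, hak⟩, hbd, hbp⟩ := exists_parts hp.out g
  have ha : PiElt {p} a := fun r hr hd => by
    simpa using (Nat.prime_dvd_prime_iff_eq hr hp.out).mp (hr.dvd_of_dvd_pow (hd.trans hak))
  let ci : I := ⟨ConjClasses.mk a, (forall_carrier_iff a).mpr ha⟩
  have hconj : IsConj a (rep ci) := ConjClasses.mk_eq_mk_iff_isConj.mp (hrep ci).symm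
  obtain ⟨t, ht⟩ := isConj_iff.mp hconj
  have hmem : t * b * t⁻¹ ∈ Subgroup.centralizer ({rep ci} : Set G) := by
    rw [Subgroup.mem_centralizer_iff]
    intro h hh
    rw [Set.mem_singleton_iff.mp hh, ← ht]
    calc t * a * t⁻¹ * (t * b * t⁻¹) = t * (a * b) * t⁻¹ := by group
      _ = t * (b * a) * t⁻¹ := by rw [hcom.eq]
      _ = _ := by group
  have hb : PiElt π (⟨t * b * t⁻¹, hmem⟩ : Subgroup.centralizer ({rep ci} : Set G)) := by
    intro r hr hd
    rw [Subgroup.orderOf_mk] at hd
    have ho : orderOf (t * b * t⁻¹) = orderOf b := by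
      simpa [MulAut.conj_apply] using
        orderOf_injective (MulAut.conj t).toMonoidHom (MulAut.conj t).injective b
    rw [ho] at hd
    rcases Finset.mem_insert.mp (hg r hr (hd.trans hbd)) with rfl | h
    · exact absurd hd hbp
    · exact h
  refine ⟨⟨ci, ⟨ConjClasses.mk ⟨t * b * t⁻¹, hmem⟩, (forall_carrier_iff _).mpr hb⟩⟩, ?_⟩
  show ConjClasses.mk (rep ci * (t * b * t⁻¹)) = ConjClasses.mk g
  rw [ConjClasses.mk_eq_mk_iff_isConj, isConj_iff]
  exact ⟨t⁻¹, by rw [← ht, hab]; group⟩

lemma piPart_singleton {G : Type u} [Group G] [Finite G] {p : ℕ} [Fact p.Prime] (P : Sylow p G) :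
    piPart {p} G = Nat.card (P : Subgroup G) := by
  rw [piPart, Finset.prod_singleton, P.card_eq_multiplicity]

/-- `k_π(G) ≤ |G|_π`. -/
theorem piClassCount_le_piPart (π : Finset ℕ) :
    ∀ (_hπ : ∀ r ∈ π, r.Prime) (G : Type u) [Group G] [Finite G],
      piClassCount π G ≤ piPart π G := by
  classical
  induction π using Finset.induction_on with
  | empty =>
    intro _ G _ _
    have : Subsingleton {c : ConjClasses G // ∀ x ∈ c.carrier, PiElt (∅ : Finset ℕ) x} := by
      refine ⟨fun a b => ?_⟩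
      have h1 : ∀ c : {c : ConjClasses G // ∀ x ∈ c.carrier, PiElt (∅ : Finset ℕ) x},
          c.1 = ConjClasses.mk 1 := by
        rintro ⟨c, hc⟩
        obtain ⟨x, rfl⟩ := ConjClasses.mk_surjective c
        have hx := (forall_carrier_iff x).mp hc
        have : orderOf x = 1 := by
          by_contra hne
          obtain ⟨r, hr, hd⟩ := Nat.exists_prime_and_dvd hne
          exact Finset.notMem_empty r (hx r hr hd)
        exact congrArg ConjClasses.mk (orderOf_eq_one_iff.mp this)
      exact Subtype.ext ((h1 a).trans (h1 b).symm)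
    simpa [piPart, piClassCount] using Finite.card_le_one_iff_subsingleton.mpr this
  | @insert p s hps ih =>
    intro hπ G _ _
    have : Fact p.Prime := ⟨hπ p (Finset.mem_insert_self _ _)⟩
    have hs : ∀ r ∈ s, r.Prime := fun r hr => hπ r (Finset.mem_insert_of_mem hr)
    have P : Sylow p G := default
    refine (piClassCount_insert_le s (piPart s G) fun x =>
      (ih hs _).trans (piPart_le_of_subgroup s hs _)).trans ?_
    rw [piPart, piPart, Finset.prod_insert hps, ← P.card_eq_multiplicity]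
    exact Nat.mul_le_mul_right _ (piClassCount_prime_le P)

/-- Transfer a lower bound on `k_π` to each prime of `π`. -/
theorem piClassCount_ratio {G : Type u} [Group G] [Finite G] (π : Finset ℕ)
    (hπ : ∀ r ∈ π, r.Prime) {p : ℕ} [Fact p.Prime] (hp : p ∈ π) (P : Sylow p G) :
    piClassCount π G * Nat.card (P : Subgroup G) ≤ piClassCount {p} G * piPart π G := by
  classical
  have hs : ∀ r ∈ π.erase p, r.Prime := fun r hr => hπ r (Finset.mem_of_mem_erase hr)
  have h := piClassCount_insert_le (p := p) (π.erase p) (piPart (π.erase p) G) fun x =>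
      (piClassCount_le_piPart _ hs _).trans (piPart_le_of_subgroup _ hs (Subgroup.centralizer ({x} : Set G)))
  rw [Finset.insert_erase hp] at h
  have hsplit : piPart π G = Nat.card (P : Subgroup G) * piPart (π.erase p) G := by
    rw [P.card_eq_multiplicity, piPart, piPart]
    exact (Finset.mul_prod_erase π (fun r => r ^ (Nat.card G).factorization r) hp).symm
  rw [hsplit]
  calc piClassCount π G * Nat.card (P : Subgroup G)
      ≤ piClassCount {p} G * piPart (π.erase p) G * Nat.card (P : Subgroup G) :=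
        Nat.mul_le_mul_right _ h
    _ = _ := by ring

/-- Index of an intersection of normal subgroups. -/
lemma index_inf_normal_dvd {G : Type u} [Group G] (A B : Subgroup G) [A.Normal] :
    (A ⊓ B).index ∣ A.index * B.index := by
  rw [← Subgroup.relIndex_mul_index (inf_le_right : A ⊓ B ≤ B), Subgroup.inf_relIndex_right]
  exact mul_dvd_mul_right (Subgroup.relIndex_dvd_index_of_normal A B) _

/-- Normal complements for each prime of `π` with abelian Sylows give a normal `π`-complement and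
an abelian complement. -/
theorem exists_piComplement {G : Type u} [Group G] [Finite G] (π : Finset ℕ)
    (hπ : ∀ r ∈ π, r.Prime)
    (h : ∀ r ∈ π, Cfsg.HasNormalPComplement r G ∧
      ∀ P : Sylow r G, IsMulCommutative (P : Subgroup G)) :
    ∃ N H : Subgroup G, N.Normal ∧ (∀ r : ℕ, r.Prime → r ∣ Nat.card N → r ∉ π) ∧
      (∀ r : ℕ, r.Prime → r ∣ N.index → r ∈ π) ∧ N.IsComplement' H ∧ IsMulCommutative H := by
  classical
  have key : ∀ s : Finset ℕ, (∀ r ∈ s, r ∈ π) → ∃ N : Subgroup G, N.Normal ∧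
      (∀ r ∈ s, ¬ r ∣ Nat.card N) ∧ (∀ r : ℕ, r.Prime → r ∣ N.index → r ∈ s) ∧
      (∀ a b : G, a⁻¹ * b⁻¹ * (a * b) ∈ N) := by
    intro s
    induction s using Finset.induction_on with
    | empty =>
      intro _
      exact ⟨⊤, inferInstance, by simp, fun r hr hd => by
        rw [Subgroup.index_top, Nat.dvd_one] at hd; exact absurd hd hr.ne_one, by simp⟩
    | @insert p s hps ih =>
      intro hs
      obtain ⟨A, hA, hA1, hA2, hA3⟩ := ih fun r hr => hs r (Finset.mem_insert_of_mem hr)
      have hpπ := hs p (Finset.mem_insert_self _ _)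
      have : Fact p.Prime := ⟨hπ p hpπ⟩
      obtain ⟨⟨Q, K, hK, hc⟩, hab⟩ := h p hpπ
      have hpK : ¬ p ∣ Nat.card K := by
        rw [← hc.index_eq_card]; exact Q.not_dvd_index
      refine ⟨K ⊓ A, inferInstance, ?_, ?_, ?_⟩
      · intro r hr hd
        rcases Finset.mem_insert.mp hr with rfl | hr
        · exact hpK (hd.trans (Subgroup.card_dvd_of_le inf_le_left))
        · exact hA1 r hr (hd.trans (Subgroup.card_dvd_of_le inf_le_right))
      · intro r hr hd
        rcases (Nat.Prime.dvd_mul hr).mp (hd.trans (index_inf_normal_dvd K A)) with h1 | h1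
        · rw [hc.symm.index_eq_card] at h1
          obtain ⟨k, hk⟩ := Q.2.exists_card_eq
          rw [hk] at h1
          rw [(Nat.prime_dvd_prime_iff_eq hr (Fact.out : p.Prime)).mp (hr.dvd_of_dvd_pow h1)]
          exact Finset.mem_insert_self _ _
        · exact Finset.mem_insert_of_mem (hA2 r hr h1)
      · intro a b
        refine ⟨?_, hA3 a b⟩
        have hQ := hab Q
        let φ : (Q : Subgroup G) →* G ⧸ K := (QuotientGroup.mk' K).comp (Q : Subgroup G).subtype
        have hsurj : Function.Surjective φ := by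
          intro z
          obtain ⟨g, rfl⟩ := QuotientGroup.mk'_surjective K z
          obtain ⟨⟨n, q⟩, hnq : (n : G) * (q : G) = g⟩ := hc.2 g
          refine ⟨q, ?_⟩
          show QuotientGroup.mk' K (q : G) = QuotientGroup.mk' K g
          rw [← hnq, map_mul]
          have : QuotientGroup.mk' K (n : G) = 1 := (QuotientGroup.eq_one_iff _).mpr n.2
          rw [this, one_mul]
        obtain ⟨x, hx⟩ := hsurj (QuotientGroup.mk' K a)
        obtain ⟨y, hy⟩ := hsurj (QuotientGroup.mk' K b)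
        refine (QuotientGroup.eq_one_iff _).mp ?_
        show QuotientGroup.mk' K (a⁻¹ * b⁻¹ * (a * b)) = 1
        rw [map_mul, map_mul, map_mul, map_inv, map_inv, ← hx, ← hy, ← map_inv, ← map_inv,
          ← map_mul, ← map_mul, ← map_mul, hQ.is_comm.comm x y]
        have : x⁻¹ * y⁻¹ * (y * x) = (1 : (Q : Subgroup G)) := by group
        rw [this, map_one]
  obtain ⟨N, hN, h1, h2, h3⟩ := key π (fun r hr => hr)
  have hcop : Nat.Coprime (Nat.card N) N.index := by
    refine Nat.coprime_of_dvd fun r hr hd hd' => h1 r (h2 r hr hd') hd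
  obtain ⟨H, hH⟩ := Subgroup.exists_right_complement'_of_coprime hcop
  refine ⟨N, H, hN, fun r _ hd hr => h1 r hr hd, h2, hH, ⟨⟨fun a b => Subtype.ext ?_⟩⟩⟩
  have hm : (a : G)⁻¹ * (b : G)⁻¹ * ((a : G) * b) ∈ N ⊓ H :=
    ⟨h3 _ _, H.mul_mem (H.mul_mem (H.inv_mem a.2) (H.inv_mem b.2)) (H.mul_mem a.2 b.2)⟩
  rw [hH.disjoint.eq_bot, Subgroup.mem_bot] at hm
  calc ((a * b : H) : G) = (b : G) * a * ((a : G)⁻¹ * (b : G)⁻¹ * ((a : G) * b)) := by
        rw [Subgroup.coe_mul]; group
    _ = ((b * a : H) : G) := by rw [hm, mul_one, Subgroup.coe_mul]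

end CfsgLib.ClassCount
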